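import Groth.Agent.H9Transfer.Kill
import Groth.Agent.EtLim8.Res
import Groth.Prelude.Def_EtAcyc

/-!
# Multiplication by an integer prime to `L` on an `L`-torsion sheaf
-/

set_option autoImplicit false
set_option linter.style.haveILetI false
set_option backward.isDefEq.respectTransparency.types false

universe u

open CategoryTheory CategoryTheory.Limits AlgebraicGeometry Opposite Abelian

namespace Groth.Agent.EtTransfer5

open EtFound

variable {X : Scheme.{u}}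

theorem nsmul_id_app (G : EtCoh.Ab X) (a : ℕ) (U : X.Etale) (s : G.obj.obj (op U)) :
    (a • 𝟙 G : G ⟶ G).hom.app (op U) s = a • s := by
  induction a with
  | zero => simp
  | succ a ih => simp [add_nsmul, ← ih]

theorem coprime_of_primesIn {L : Set ℕ} {d m : ℕ} (hL : ∀ p : ℕ, p.Prime → p ∈ L → ¬ p ∣ d)
    (hm : EtAcyc.PrimesIn L m) : d.Coprime m :=
  Nat.coprime_of_dvd fun p hp hpd hpm => hL p hp (hm.2 p hp hpm) hpd

theorem isIso_nsmul {L : Set ℕ} {d : ℕ} (hL : ∀ p : ℕ, p.Prime → p ∈ L → ¬ p ∣ d) (F : EtCoh.Ab X)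
    (hF : EtAcyc.IsLTorsion L F) : IsIso (d • 𝟙 F) := by
  have hbez : ∀ {m : ℕ}, EtAcyc.PrimesIn L m → ∀ {U : X.Etale} (t : F.obj.obj (op U)), m • t = 0 →
      d • (Nat.gcdA d m • t) = t := by
    intro m hm U t ht
    have h1 : (1 : ℤ) = d * Nat.gcdA d m + m * Nat.gcdB d m := by
      have := Nat.gcd_eq_gcd_ab d m
      rwa [(coprime_of_primesIn hL hm).gcd_eq_one, Nat.cast_one] at this
    calc d • (Nat.gcdA d m • t) = ((d : ℤ) * Nat.gcdA d m) • t := by rw [mul_smul, natCast_zsmul]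
      _ = ((d : ℤ) * Nat.gcdA d m + m * Nat.gcdB d m) • t := by
        rw [add_smul, mul_comm (m : ℤ), mul_smul (Nat.gcdB d m), natCast_zsmul t m, ht, smul_zero, add_zero]
      _ = t := by rw [← h1, one_zsmul]
  have hinj : ∀ {m : ℕ}, EtAcyc.PrimesIn L m → ∀ {U : X.Etale} (t : F.obj.obj (op U)), m • t = 0 →
      d • t = 0 → t = 0 := by
    intro m hm U t ht hdt
    rw [← hbez hm t ht, smul_comm, hdt, smul_zero]
  refine (Sheaf.isLocallyBijective_iff_isIso (d • 𝟙 F)).1 ⟨Presheaf.isLocallyInjective_of_injective _ _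
    fun U s t hst => ?_, ⟨fun {U} s => (mem_topology_iff _).2 fun x => ?_⟩⟩
  · rw [nsmul_id_app, nsmul_id_app] at hst
    refine eq_of_sub_eq_zero (EtLim8.eq_zero_of_nullLocus fun x => ?_)
    obtain ⟨V, g, m, ⟨v, hv⟩, hm, hms⟩ := hF U.unop (s - t) x
    refine ⟨V, g, v, hv, hinj hm _ hms ?_⟩
    rw [← map_nsmul, smul_sub, hst, sub_self, map_zero]
  · obtain ⟨V, g, m, ⟨v, hv⟩, hm, hms⟩ := hF U s x
    exact ⟨V, g, v, ⟨Nat.gcdA d m • F.obj.map g.op s, (nsmul_id_app F d V _).trans (hbez hm _ hms)⟩, hv⟩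

theorem eq_zero_of_nsmul_eq_zero {L : Set ℕ} {d : ℕ} (hL : ∀ p : ℕ, p.Prime → p ∈ L → ¬ p ∣ d)
    {F : EtCoh.Ab X} (hF : EtAcyc.IsLTorsion L F) {q : ℕ} (x : EtCoh.H X F q) (hx : d • x = 0) : x = 0 := by
  haveI := isIso_nsmul hL F hF
  have h : x.comp (Ext.mk₀ (d • 𝟙 F)) (add_zero q) = 0 := (H9Transfer.comp_nsmul_id x d).trans hx
  have h2 := congrArg (fun y => Ext.comp y (Ext.mk₀ (inv (d • 𝟙 F))) (add_zero q)) h
  simpa using h2

end Groth.Agent.EtTransfer5
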