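import Groth.Agent.H9Transfer.Basic
import Groth.Agent.EtFound.ExtZeroConstr
import Groth.Agent.EtFound.StalkSet
import Mathlib.AlgebraicGeometry.Sites.EtalePoint

/-!
# A separated étale morphism with `d` geometric points in every fibre is split by an étale covering
-/

set_option autoImplicit false
set_option linter.style.haveILetI false
set_option linter.unusedVariables false
set_option backward.isDefEq.respectTransparency false
set_option backward.isDefEq.respectTransparency.types false

universe u

open CategoryTheory CategoryTheory.Limits AlgebraicGeometry Opposite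

namespace Groth.Agent.EtTransfer5

open EtFound

variable {U X : Scheme.{u}} (f : U ⟶ X) [Etale f]

theorem natCard_ptsOver_eq [QuasiCompact f] {Ω : Type u} [Field Ω] [IsSepClosed Ω]
    (ξ : Spec (CommRingCat.of Ω) ⟶ X) : Nat.card (PtsOver f ξ) = Nat.card ↥(pullback f ξ) := by
  let d : Spec (CommRingCat.of Ω) := default
  let p := pullback.snd f ξ
  haveI : Etale p := MorphismProperty.pullback_snd _ _ ‹_›
  let s : PtsOver f ξ → (Spec (CommRingCat.of Ω) ⟶ pullback f ξ) := fun a =>
    pullback.lift a.1 (𝟙 _) (a.2.trans (Category.id_comp _).symm)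
  have hs : ∀ a, s a ≫ p = 𝟙 _ := fun a => pullback.lift_snd _ _ _
  refine Nat.card_eq_of_bijective (fun a => (s a).base d) ⟨fun a b e => ?_, fun x => ?_⟩
  · have hoi : ∀ a, IsOpenImmersion (s a) := fun a => by
      have : AlgebraicGeometry.Etale (s a) := EtCoh.etaleMP.of_postcomp (W' := EtCoh.etaleMP) (s a) p
        (inferInstanceAs (AlgebraicGeometry.Etale p))
        (show AlgebraicGeometry.Etale (s a ≫ p) from (hs a).symm ▸ inferInstance)
      have : Mono (s a) := mono_of_mono_fac (hs a)
      exact IsOpenImmersion.of_flat_of_mono (s a)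
    have := hoi a
    have := hoi b
    have hr : Set.range (s a).base ⊆ Set.range (s b).base := by
      rintro _ ⟨x, rfl⟩
      refine ⟨d, ?_⟩
      rw [Subsingleton.elim (α := Spec (CommRingCat.of Ω)) x d]
      exact e.symm
    have h1 := IsOpenImmersion.lift_fac (s b) (s a) hr
    have h2 : IsOpenImmersion.lift (s b) (s a) hr = 𝟙 _ := by
      have h3 := congrArg (· ≫ p) h1
      simp only [Category.assoc, hs, Category.comp_id] at h3
      exact h3
    rw [h2, Category.id_comp] at h1
    exact Subtype.ext ((pullback.lift_fst _ _ _).symm.trans ((congrArg (· ≫ pullback.fst f ξ) h1.symm).trans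
      (pullback.lift_fst _ _ _)))
  · obtain ⟨l, hl, hlx⟩ := Scheme.exists_fac_of_etale_of_isSepClosed p (𝟙 _) x
      (Subsingleton.elim (α := Spec (CommRingCat.of Ω)) _ _)
    refine ⟨⟨l ≫ pullback.fst f ξ, ?_⟩, ?_⟩
    · rw [Category.assoc, pullback.condition, ← Category.assoc, hl, Category.id_comp]
    · have e : s ⟨l ≫ pullback.fst f ξ, by rw [Category.assoc, pullback.condition, ← Category.assoc, hl, Category.id_comp]⟩ = l :=
        pullback.hom_ext (pullback.lift_fst _ _ _) ((hs _).trans hl.symm)
      exact (congrArg (fun r : Spec (CommRingCat.of Ω) ⟶ pullback f ξ => r.base d) e).trans hlx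

/-- `U` as an object of the étale site of `X` -/
noncomputable abbrev src : X.Etale := Scheme.Etale.mk f

variable [IsSeparated f] [QuasiCompact f]

set_option maxHeartbeats 1600000 in
theorem exists_distinct {d : ℕ}
    (hd : ∀ (Ω : Type u) [Field Ω] [IsSepClosed Ω] (ξ : Spec (CommRingCat.of Ω) ⟶ X), Nat.card (PtsOver f ξ) = d) :
    ∀ k ≤ d, ∃ (M : X.Etale) (σ : Fin k → (M ⟶ src f)), Function.Surjective M.hom.base ∧
      ∀ (Ω : Type u) (_ : Field Ω) (_ : IsSepClosed Ω) (v : Spec (CommRingCat.of Ω) ⟶ M.left),
        Function.Injective fun i => v ≫ (σ i).left := by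
  intro k
  induction k with
  | zero =>
    exact fun _ => ⟨EtCoh.top X, fun i => i.elim0, fun x => ⟨x, rfl⟩, fun _ _ _ _ i => i.elim0⟩
  | succ k ih =>
    intro hk
    obtain ⟨M, σ, hM, hσ⟩ := ih (Nat.le_of_succ_le hk)
    haveI : Etale M.hom := M.prop
    let P := pullback M.hom f
    let a : P ⟶ M.left := pullback.fst M.hom f
    haveI : Etale a := MorphismProperty.pullback_fst _ _ ‹_›
    haveI : IsSeparated a := MorphismProperty.pullback_fst _ _ ‹_›
    let g : Fin k → (M.left ⟶ P) := fun i => pullback.lift (𝟙 M.left) (σ i).left (by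
      rw [Category.id_comp]
      exact (MorphismProperty.Over.w (σ i)).symm)
    have hg : ∀ i, g i ≫ a = 𝟙 M.left := fun i => pullback.lift_fst _ _ _
    haveI : ∀ i, IsClosedImmersion (g i) := fun i => by
      haveI : IsClosedImmersion (g i ≫ a) := (hg i).symm ▸ inferInstance
      exact IsClosedImmersion.of_comp (g i) a
    let O : P.Opens := ⟨(⋃ i, Set.range (g i).base)ᶜ,
      (isClosed_iUnion_of_finite fun i => (g i).isClosedEmbedding.isClosed_range).isOpen_compl⟩
    let N : X.Etale := Scheme.Etale.mk (O.ι ≫ a ≫ M.hom)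
    let q : N ⟶ M := MorphismProperty.Over.homMk (O.ι ≫ a) (Category.assoc _ _ _) trivial
    let τ : N ⟶ src f := MorphismProperty.Over.homMk (O.ι ≫ pullback.snd M.hom f) (by
      show (O.ι ≫ pullback.snd M.hom f) ≫ f = O.ι ≫ a ≫ M.hom
      rw [Category.assoc, ← pullback.condition]) trivial
    refine ⟨N, Fin.snoc (fun i => q ≫ σ i) τ, fun x => ?_, fun Ω _ _ v => ?_⟩
    · obtain ⟨m, hm⟩ := hM x
      obtain ⟨Ω, _, _, ξ, u, hu⟩ := exists_point_through M m
      let v₀ : Spec (CommRingCat.of Ω) ⟶ M.left := u.left
      have hv₀ : v₀ ≫ M.hom = ξ := CategoryTheory.Over.w u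
      have hcard := hd Ω ξ
      haveI : Finite (PtsOver f ξ) := finite_ptsOver f ξ
      let pts : Fin k → PtsOver f ξ := fun i =>
        ⟨v₀ ≫ (σ i).left, by
          rw [Category.assoc]
          exact (congrArg (v₀ ≫ ·) (MorphismProperty.Over.w (σ i))).trans hv₀⟩
      obtain ⟨b, hb⟩ : ∃ b, ∀ i, pts i ≠ b := by
        by_contra hne
        push_neg at hne
        have := Nat.card_le_card_of_surjective pts (fun b => hne b)
        rw [hcard, Nat.card_fin] at this
        omega
      let l : Spec (CommRingCat.of Ω) ⟶ P := pullback.lift v₀ b.1 (hv₀.trans b.2.symm)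
      have hl : l.base default ∈ O := by
        intro hl
        obtain ⟨i, m', hm'⟩ := Set.mem_iUnion.1 hl
        haveI : Etale (g i) := EtCoh.etaleMP.of_postcomp (W' := EtCoh.etaleMP) (g i) a
          (inferInstanceAs (Etale a)) (show Etale (g i ≫ a) from (hg i).symm ▸ inferInstance)
        haveI : IsOpenImmersion (g i) := IsOpenImmersion.of_flat_of_mono (g i)
        have hr : Set.range l.base ⊆ Set.range (g i).base := by
          rintro _ ⟨z, rfl⟩
          rw [Subsingleton.elim (α := Spec (CommRingCat.of Ω)) z default]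
          exact ⟨m', hm'⟩
        have h1 := IsOpenImmersion.lift_fac (g i) l hr
        have h2 : IsOpenImmersion.lift (g i) l hr = v₀ := by
          have h3 := congrArg (· ≫ a) h1
          simp only [Category.assoc, hg, Category.comp_id] at h3
          exact h3.trans (pullback.lift_fst _ _ _)
        refine hb i (Subtype.ext ?_)
        have h4 := congrArg (· ≫ pullback.snd M.hom f) h1
        simp only [Category.assoc, h2] at h4
        exact ((congrArg (v₀ ≫ ·) (pullback.lift_snd _ _ _).symm).trans h4).trans (pullback.lift_snd _ _ _)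
      refine ⟨⟨l.base default, hl⟩, ?_⟩
      show (O.ι ≫ a ≫ M.hom).base (⟨l.base default, hl⟩ : O) = x
      rw [Scheme.Hom.comp_apply, Scheme.Hom.comp_apply]
      show M.hom.base (a.base (l.base default)) = x
      rw [← Scheme.Hom.comp_apply l a, show l ≫ a = v₀ from pullback.lift_fst _ _ _]
      exact (congrArg M.hom.base (hu default)).trans hm
    · have hne : ∀ i : Fin k, (v ≫ q.left) ≫ (σ i).left ≠ v ≫ τ.left := by
        intro i h
        refine ((v.base default : O).2 : _ ∈ (⋃ i, Set.range (g i).base)ᶜ)
          (Set.mem_iUnion.2 ⟨i, (v ≫ q.left).base default, ?_⟩)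
        have e : (v ≫ q.left) ≫ g i = v ≫ O.ι := by
          refine pullback.hom_ext ?_ ?_
          · rw [Category.assoc _ (g i), pullback.lift_fst, Category.comp_id]
            exact (Category.assoc _ _ _).symm
          · rw [Category.assoc _ (g i), pullback.lift_snd]
            exact h.trans (Category.assoc _ _ _).symm
        exact (Scheme.Hom.comp_apply _ _ _).symm.trans (congrArg (fun r => r.base default) e)
      have hcs : ∀ i : Fin k, v ≫ ((Fin.snoc (fun i => q ≫ σ i) τ : Fin (k + 1) → (N ⟶ src f)) i.castSucc).left =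
          (v ≫ q.left) ≫ (σ i).left := fun i => by
        rw [Fin.snoc_castSucc]
        exact (Category.assoc _ _ _).symm
      have hlast : v ≫ ((Fin.snoc (fun i => q ≫ σ i) τ : Fin (k + 1) → (N ⟶ src f)) (Fin.last k)).left = v ≫ τ.left := by
        rw [Fin.snoc_last]
      intro i j hij
      induction i using Fin.lastCases with
      | last =>
        induction j using Fin.lastCases with
        | last => rfl
        | cast j => exact absurd ((hcs j).symm.trans (hij.symm.trans hlast)) (hne j)
      | cast i =>
        induction j using Fin.lastCases with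
        | last => exact absurd ((hcs i).symm.trans (hij.trans hlast)) (hne i)
        | cast j => exact congrArg Fin.castSucc (hσ Ω inferInstance inferInstance (v ≫ q.left)
            ((hcs i).symm.trans (hij.trans (hcs j))))

/-- the degree kills classes killed by the pullback -/
theorem nsmul_eq_zero_of_Hpull_eq_zero {d : ℕ}
    (hd : ∀ (Ω : Type u) [Field Ω] [IsSepClosed Ω] (ξ : Spec (CommRingCat.of Ω) ⟶ X), Nat.card (PtsOver f ξ) = d)
    [PreservesFiniteLimits (EtCoh.pull f)] {F : EtCoh.Ab X} {n : ℕ}
    (α : EtCoh.H X F n) (hα : EtCore.Hpull f F n α = 0) : d • α = 0 := by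
  haveI := EtFound.jCont f
  obtain ⟨M, σ, hM, hσ⟩ := exists_distinct f hd d le_rfl
  let e : src f ⟶ H9Transfer.Lo f := MorphismProperty.Over.homMk (𝟙 U) (by
    show 𝟙 U ≫ (𝟙 U ≫ f) = f
    rw [Category.id_comp, Category.id_comp]) trivial
  rw [← Fintype.card_fin d]
  refine H9Transfer.nsmul_eq_zero f (fun i => σ i ≫ e) ?_ hM α hα
  intro Ω _ _ ξ v
  haveI : Finite (PtsOver f ξ) := finite_ptsOver f ξ
  let toPts : (Scheme.pointSmallEtale ξ).fiber.obj (H9Transfer.Lo f) → PtsOver f ξ := fun w =>
    ⟨w.left, (congrArg (w.left ≫ ·) (Category.id_comp f).symm).trans (CategoryTheory.Over.w w)⟩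
  have hinj : Function.Injective toPts := fun w w' h =>
    CategoryTheory.Over.OverMorphism.ext (congrArg Subtype.val h)
  haveI := Finite.of_injective toPts hinj
  refine Function.Injective.bijective_of_nat_card_le (fun i j hij => ?_) ?_
  · refine hσ Ω inferInstance inferInstance v.left ?_
    have := congrArg CommaMorphism.left hij
    change v.left ≫ ((σ i).left ≫ 𝟙 U) = v.left ≫ ((σ j).left ≫ 𝟙 U) at this
    exact ((congrArg (v.left ≫ ·) (Category.comp_id _)).symm.trans this).trans
      (congrArg (v.left ≫ ·) (Category.comp_id _))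
  · rw [Nat.card_fin]
    exact (Nat.card_le_card_of_injective toPts hinj).trans (hd Ω ξ).le

end Groth.Agent.EtTransfer5
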